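import Cfsg.Agent.S2253

/-!
The largest order of a nilpotent subgroup of an alternating group.
-/

set_option autoImplicit false
set_option linter.style.haveILetI false

namespace Cfsg.Lib.NilpPerm

open Equiv
open Cfsg.Agent.S2253 (e F e_eq e_mono_dvd F_pos F_add F_mono card_le_F)

/-- The bound for nilpotent subgroups of the alternating group of degree `n`. -/
def G (n : ℕ) : ℕ :=
  if n ≤ 1 then 1 else if n = 3 then 3 else if n = 5 then 5 else if n = 6 then 9 else if n = 9 then 81
    else F n / 2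

theorem half_le_G (n : ℕ) : F n / 2 ≤ G n := by
  unfold G
  split_ifs with h1 h3 h5 h6 h9
  · interval_cases n <;> decide +kernel
  all_goals subst_vars
  all_goals first | exact le_rfl | decide +kernel

theorem G_le_F (n : ℕ) : G n ≤ F n := by
  unfold G
  split_ifs with h1 h3 h5 h6 h9
  · exact F_pos n
  all_goals subst_vars
  all_goals first | exact Nat.div_le_self _ _ | decide +kernel

theorem two_mul_G {n : ℕ} (hn : n ∉ ({0, 1, 3, 5, 6, 9} : Finset ℕ)) : 2 * G n ≤ F n := by
  simp only [Finset.mem_insert, Finset.mem_singleton, not_or] at hn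
  rw [G, if_neg (by omega), if_neg hn.2.2.1, if_neg hn.2.2.2.1, if_neg hn.2.2.2.2.1, if_neg hn.2.2.2.2.2]
  omega

theorem G_add (a b : ℕ) : G a * G b ≤ G (a + b) := by
  by_cases ha : a ∈ ({0, 1, 3, 5, 6, 9} : Finset ℕ)
  · by_cases hb : b ∈ ({0, 1, 3, 5, 6, 9} : Finset ℕ)
    · have key : ∀ a ∈ ({0, 1, 3, 5, 6, 9} : Finset ℕ), ∀ b ∈ ({0, 1, 3, 5, 6, 9} : Finset ℕ),
          G a * G b ≤ G (a + b) := by decide +kernel
      exact key a ha b hb
    · refine le_trans ?_ (half_le_G _)
      rw [Nat.le_div_iff_mul_le two_pos, mul_assoc, mul_comm (G b) 2]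
      exact (Nat.mul_le_mul (G_le_F a) (two_mul_G hb)).trans (F_add a b)
  · refine le_trans ?_ (half_le_G _)
    rw [Nat.le_div_iff_mul_le two_pos, mul_comm, ← mul_assoc]
    exact (Nat.mul_le_mul (two_mul_G ha) (G_le_F b)).trans (F_add a b)

theorem half_of_gap {a b n : ℕ} (h : a + b + 2 ≤ n) : F a * F b ≤ G n := by
  refine le_trans ?_ (half_le_G _)
  rw [Nat.le_div_iff_mul_le two_pos]
  have h2 : F 2 = 2 := by decide +kernel
  calc F a * F b * 2 ≤ F (a + b) * F 2 := by rw [h2]; exact Nat.mul_le_mul_right _ (F_add a b)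
    _ ≤ F (a + b + 2) := F_add _ _
    _ ≤ F n := F_mono h

theorem F_large_two : ∀ n, 16 ≤ n → 4 * 3 ^ (n - 1) ≤ F n ^ 2 := by
  intro n
  induction n using Nat.strong_induction_on with
  | _ n ih =>
    intro hn
    by_cases h : n < 24
    · have key : ∀ k < 24, 16 ≤ k → 4 * 3 ^ (k - 1) ≤ F k ^ 2 := by decide +kernel
      exact key n h hn
    · have h1 := ih (n - 8) (by omega) (by omega)
      have h2 := F_add (n - 8) 8
      rw [Nat.sub_add_cancel (by omega : 8 ≤ n)] at h2
      have h3 : F 8 = 2 ^ 7 := by decide +kernel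
      calc 4 * 3 ^ (n - 1) = 4 * 3 ^ (n - 8 - 1) * 3 ^ 8 := by rw [mul_assoc, ← pow_add]; congr 2; omega
        _ ≤ F (n - 8) ^ 2 * (F 8) ^ 2 := Nat.mul_le_mul h1 (by rw [h3]; norm_num)
        _ = (F (n - 8) * F 8) ^ 2 := by ring
        _ ≤ F n ^ 2 := Nat.pow_le_pow_left h2 2

theorem small_case : ∀ n p k : Fin 16, (p : ℕ) % 2 = 1 → 3 ≤ (p : ℕ) → ((p : ℕ) % 3 ≠ 0 ∨ (p : ℕ) = 3) →
    (p : ℕ) ^ (k : ℕ) ∣ (n : ℕ).factorial → (p : ℕ) ^ (k : ℕ) ≤ G n := by
  decide +kernel

theorem odd_pow_le {p k n : ℕ} (hp : p.Prime) (hp3 : 3 ≤ p) (h : p ^ k ∣ n.factorial) : p ^ k ≤ G n := by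
  haveI : Fact p.Prime := ⟨hp⟩
  have hodd : p % 2 = 1 := hp.eq_two_or_odd.resolve_left (by omega)
  rcases Nat.eq_zero_or_pos k with rfl | hk0
  · rw [pow_zero]; unfold G
    split_ifs <;> first | norm_num | skip
    have : 2 ≤ F n := by
      have := F_mono (show 2 ≤ n by omega)
      have h2 : F 2 = 2 := by decide +kernel
      omega
    omega
  have hpn : p ≤ n := (hp.dvd_factorial).mp ((dvd_pow_self p (by omega)).trans h)
  have hk : k ≤ padicValNat p n.factorial := (padicValNat_dvd_iff_le n.factorial_ne_zero).mp h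
  have h1 := sub_one_mul_padicValNat_factorial_lt_of_ne_zero p (n := n) (by omega)
  have h2 := Nat.mul_le_mul_left (p - 1) hk
  by_cases h16 : n < 16
  · have hk16 : k < 16 := by
      have := Nat.mul_le_mul (show 1 ≤ p - 1 by omega) hk
      omega
    exact small_case ⟨n, h16⟩ ⟨p, by omega⟩ ⟨k, hk16⟩ hodd hp3
      (or_iff_not_imp_left.mpr fun hc => ((Nat.prime_dvd_prime_iff_eq Nat.prime_three hp).mp
        (Nat.dvd_of_mod_eq_zero (not_not.mp hc))).symm) h
  · refine le_trans ?_ (half_le_G _)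
    rw [Nat.le_div_iff_mul_le two_pos]
    refine (Nat.pow_le_pow_iff_left two_ne_zero).mp ?_
    calc (p ^ k * 2) ^ 2 = 4 * (p ^ 2) ^ k := by rw [mul_pow, ← pow_mul, ← pow_mul, mul_comm k 2]; ring
      _ ≤ 4 * (3 ^ (p - 1)) ^ k :=
          Nat.mul_le_mul_left _ (Nat.pow_le_pow_left (Cfsg.Agent.S2253.three_pow_ge p hp3) k)
      _ ≤ 4 * 3 ^ (n - 1) := by
          rw [← pow_mul]; exact Nat.mul_le_mul_left _ (Nat.pow_le_pow_right (by norm_num) (by omega))
      _ ≤ F n ^ 2 := F_large_two n (by omega)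

/-- A nilpotent transitive group which is not of prime power order injects into two smaller degrees. -/
theorem transitive_bound {α : Type} [Finite α] (N : Subgroup (Perm α)) (hN : Group.IsNilpotent N)
    (hp : ¬ ∃ p : ℕ, p.Prime ∧ IsPGroup p N) (ω : α) (htr : ∀ x : α, ∃ g ∈ N, g ω = x) :
    ∃ a b : ℕ, 2 * a ≤ Nat.card α ∧ 3 * b ≤ Nat.card α ∧ Nat.card N ≤ F a * F b := by
  classical
  haveI : Fintype α := Fintype.ofFinite α
  have hN1 : Nat.card N ≠ 1 := fun h => hp ⟨2, Nat.prime_two, IsPGroup.of_card (n := 0) (by simpa using h)⟩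
  obtain ⟨p, hpp, hpd, hp2⟩ : ∃ p : ℕ, p.Prime ∧ p ∣ Nat.card N ∧ (2 ∣ Nat.card N → p = 2) := by
    by_cases h2 : 2 ∣ Nat.card N
    · exact ⟨2, Nat.prime_two, h2, fun _ => rfl⟩
    · obtain ⟨p, hpp, hpd⟩ := Nat.exists_prime_and_dvd hN1
      exact ⟨p, hpp, hpd, fun h => absurd h h2⟩
  haveI : Fact p.Prime := ⟨hpp⟩
  obtain ⟨P⟩ : Nonempty (Sylow p N) := inferInstance
  have htfae := (Group.isNilpotent_of_finite_tfae (G := N)).out 0 3
  haveI hPn : (P : Subgroup N).Normal := htfae.1 hN p ‹_› P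
  obtain ⟨R, hR⟩ := Subgroup.exists_right_complement'_of_coprime (N := (P : Subgroup N)) P.card_coprime_index
  have hRc : (Nat.card R).Coprime p := by
    rw [← hR.symm.index_eq_card]
    exact (hpp.coprime_iff_not_dvd.mpr P.not_dvd_index).symm
  have hcomm : ∀ q ∈ (P : Subgroup N), ∀ r ∈ R, Commute q r := by
    intro q hq r hr
    haveI := hN
    exact Cfsg.Agent.S2253.comm_coprime (Cfsg.Agent.S2253.orderOf_coprime_of_mem hpp P.2 hq hRc hr)
  haveI hRn : R.Normal := ⟨fun r hr x => by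
    obtain ⟨⟨⟨q, hq⟩, ⟨s, hs⟩⟩, hqs⟩ := hR.2 x
    have hqs : q * s = x := hqs
    have h := hcomm q hq _ (mul_mem (mul_mem hs hr) (inv_mem hs))
    rw [← hqs, show q * s * r * (q * s)⁻¹ = q * (s * r * s⁻¹) * q⁻¹ by group, h.eq, mul_inv_cancel_right]
    exact mul_mem (mul_mem hs hr) (inv_mem hs)⟩
  have hRodd : ¬ 2 ∣ Nat.card R := fun h2 => by
    have := hp2 (h2.trans (Subgroup.card_subgroup_dvd_card R))
    subst this
    exact absurd h2 ((Nat.prime_two.coprime_iff_not_dvd).mp hRc.symm)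
  let orbit : Subgroup N → α → Set α := fun K x => {y | ∃ g ∈ K, ((g : N) : Equiv.Perm α) x = y}
  have orbit_conj : ∀ (K : Subgroup N) [K.Normal] (g : N) x,
      orbit K ((g : Equiv.Perm α) x) = (g : Equiv.Perm α) '' orbit K x := by
    intro K hK g x
    ext y
    constructor
    · rintro ⟨k, hk, rfl⟩
      exact ⟨_, ⟨g⁻¹ * k * g, by simpa using hK.conj_mem k hk g⁻¹, rfl⟩, by simp [Equiv.Perm.mul_apply]⟩
    · rintro ⟨_, ⟨k, hk, rfl⟩, rfl⟩
      exact ⟨g * k * g⁻¹, hK.conj_mem k hk g, by simp [Equiv.Perm.mul_apply]⟩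
  let sK : ∀ (K : Subgroup N), Setoid α := fun K =>
    { r := fun x y => y ∈ orbit K x
      iseqv := ⟨fun x => ⟨1, one_mem K, rfl⟩,
        fun {x y} ⟨k, hk, e⟩ => ⟨k⁻¹, inv_mem hk, by rw [← e]; simp⟩,
        fun {x y z} ⟨k, hk, e⟩ ⟨l, hl, e'⟩ => ⟨l * k, mul_mem hl hk, by rw [← e', ← e]; rfl⟩⟩ }
  have act : ∀ (K : Subgroup N) [K.Normal], ∃ f : N →* Equiv.Perm (Quotient (sK K)), ∀ g x,
      f g (Quotient.mk (sK K) x) = Quotient.mk (sK K) ((g : Equiv.Perm α) x) := by
    intro K hK
    have hresp : ∀ (g : N) x y, (sK K).r x y → (sK K).r ((g : Equiv.Perm α) x) ((g : Equiv.Perm α) y) := by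
      intro g x y h
      show _ ∈ orbit K _
      rw [orbit_conj]
      exact ⟨y, h, rfl⟩
    let φ : N → Quotient (sK K) → Quotient (sK K) := fun g =>
      Quotient.map (g : Equiv.Perm α) fun x y h => hresp g x y h
    have φmul : ∀ g h q, φ (g * h) q = φ g (φ h q) := fun g h q => Quotient.inductionOn q fun x => rfl
    have φone : ∀ q, φ 1 q = q := fun q => Quotient.inductionOn q fun x => rfl
    exact ⟨MonoidHom.toHomPerm
      { toFun := φ
        map_one' := funext φone
        map_mul' := fun g h => funext (φmul g h) }, fun g x => rfl⟩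
  -- every orbit of a nontrivial normal subgroup is nontrivial
  have mv : ∀ (K : Subgroup N) [K.Normal], K ≠ ⊥ → ∀ x, ∃ g ∈ K, ((g : N) : Equiv.Perm α) x ≠ x := by
    intro K hK hK1 x
    obtain ⟨k, hk, hk1⟩ := (Subgroup.bot_or_exists_ne_one K).resolve_left hK1
    by_contra hc
    push Not at hc
    refine hk1 (Subtype.ext (Equiv.ext fun y => ?_))
    obtain ⟨g, hg, hgx⟩ := htr x
    obtain ⟨g', hg', hgy⟩ := htr y
    set t : N := ⟨g', hg'⟩ * ⟨g, hg⟩⁻¹
    have hty : (t : Equiv.Perm α) x = y := by simp [t, ← hgx, ← hgy, Equiv.Perm.mul_apply]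
    have h := hc _ (hK.conj_mem k hk t⁻¹)
    rw [← hty]
    simpa [Equiv.Perm.mul_apply, Equiv.symm_apply_eq] using h
  have count : ∀ (K : Subgroup N) (m : ℕ), (∀ x, ∃ w : Fin m → α, Function.Injective w ∧ ∀ i, w i ∈ orbit K x) →
      m * Nat.card (Quotient (sK K)) ≤ Nat.card α := by
    intro K m hw
    choose w hwi hwo using hw
    have hinj : Function.Injective (fun p : Quotient (sK K) × Fin m => w p.1.out p.2) := by
      rintro ⟨a, i⟩ ⟨b, j⟩ h
      have hc : ∀ (c : Quotient (sK K)) (l : Fin m), Quotient.mk (sK K) (w c.out l) = c := fun c l =>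
        ((Quotient.sound (s := sK K) (hwo c.out l)).symm).trans c.out_eq
      have hab : a = b := by
        have := congrArg (Quotient.mk (sK K)) h
        simp only [hc] at this
        exact this
      subst hab
      exact Prod.ext rfl (hwi _ h)
    have := Nat.card_le_card_of_injective _ hinj
    rw [Nat.card_prod, Nat.card_fin, mul_comm] at this
    exact this
  obtain ⟨f, hf⟩ := act (P : Subgroup N)
  obtain ⟨f', hf'⟩ := act R
  have hPne : (P : Subgroup N) ≠ ⊥ := P.ne_bot_of_dvd_card hpd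
  have hRne : R ≠ ⊥ := fun h => hp ⟨p, hpp, by
    have hc := hR.card_mul
    rw [h, Subgroup.card_bot, mul_one] at hc
    exact P.2.of_surjective (Subgroup.subtype _) fun x => ⟨⟨x, by
      rw [Subgroup.eq_top_of_card_eq _ hc]; trivial⟩, rfl⟩⟩
  refine ⟨Nat.card (Quotient (sK (P : Subgroup N))), Nat.card (Quotient (sK R)), ?_, ?_, ?_⟩
  · refine count _ 2 fun x => ?_
    obtain ⟨g, hg, hgx⟩ := mv (P : Subgroup N) hPne x
    refine ⟨![x, ((g : N) : Equiv.Perm α) x], fun i j h => ?_, fun i => ?_⟩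
    · fin_cases i <;> fin_cases j <;> first | rfl | exact absurd h hgx | exact absurd h.symm hgx
    · fin_cases i
      · exact ⟨1, one_mem _, rfl⟩
      · exact ⟨g, hg, rfl⟩
  · refine count _ 3 fun x => ?_
    obtain ⟨g, hg, hgx⟩ := mv R hRne x
    have hg2 : ((g : N) : Equiv.Perm α) (((g : N) : Equiv.Perm α) x) ≠ x := fun h => by
      obtain ⟨j, hj⟩ : Odd (orderOf g) := by
        rw [Nat.odd_iff]
        have hd : orderOf g ∣ Nat.card R := by
          have := orderOf_dvd_natCard (⟨g, hg⟩ : R)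
          rwa [Subgroup.orderOf_mk] at this
        by_contra hc
        exact hRodd ((show 2 ∣ orderOf g by omega).trans hd)
      apply hgx
      have e1 := pow_orderOf_eq_one g
      rw [hj, pow_succ', pow_mul] at e1
      have e2 := congrArg (fun y : N => (y : Equiv.Perm α) x) e1
      simp only [Subgroup.coe_mul, SubgroupClass.coe_pow, Equiv.Perm.mul_apply, Subgroup.coe_one,
        Equiv.Perm.one_apply] at e2
      rwa [Equiv.Perm.pow_apply_eq_self_of_apply_eq_self (by rw [pow_two]; exact h)] at e2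
    refine ⟨![x, ((g : N) : Equiv.Perm α) x, ((g : N) : Equiv.Perm α) (((g : N) : Equiv.Perm α) x)],
      fun i j h => ?_, fun i => ?_⟩
    · have h3 : ((g : N) : Equiv.Perm α) (((g : N) : Equiv.Perm α) x) ≠ ((g : N) : Equiv.Perm α) x := fun h =>
        hgx ((g : Equiv.Perm α).injective h)
      fin_cases i <;> fin_cases j <;> first
        | rfl
        | exact absurd h hgx
        | exact absurd h.symm hgx
        | exact absurd h hg2
        | exact absurd h.symm hg2
        | exact absurd h h3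
        | exact absurd h.symm h3
    · fin_cases i
      · exact ⟨1, one_mem _, rfl⟩
      · exact ⟨g, hg, rfl⟩
      · exact ⟨g * g, mul_mem hg hg, rfl⟩
  · have hinj : Function.Injective (f.rangeRestrict.prod f'.rangeRestrict) := by
      refine (injective_iff_map_eq_one _).mpr fun g hx => ?_
      have h : f g = 1 := congrArg Subtype.val (Prod.mk.inj hx).1
      have h' : f' g = 1 := congrArg Subtype.val (Prod.mk.inj hx).2
      refine Subtype.ext (Equiv.ext fun x => ?_)
      have e1 := hf g x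
      have e2 := hf' g x
      rw [h, Equiv.Perm.one_apply] at e1
      rw [h', Equiv.Perm.one_apply] at e2
      obtain ⟨q, hq, eq⟩ := Quotient.exact e1
      obtain ⟨r, hr, er⟩ := Quotient.exact e2
      have hgx : ((r⁻¹ * q : N) : Equiv.Perm α) x = x := by simp [Equiv.Perm.mul_apply, eq, ← er]
      have hc : Commute r⁻¹ q := ((hcomm q hq r hr).inv_right).symm
      have hcop := Cfsg.Agent.S2253.orderOf_coprime_of_mem hpp P.2 hq hRc (inv_mem hr)
      obtain ⟨z, hz⟩ := Cfsg.Agent.S2253.mem_zpowers_mul hc hcop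
      show (g : Equiv.Perm α) x = x
      rw [← eq, ← hz]
      exact Equiv.Perm.zpow_apply_eq_self_of_apply_eq_self hgx z
    have h1 := Nat.card_le_card_of_injective _ hinj
    rw [Nat.card_prod] at h1
    exact h1.trans (Nat.mul_le_mul
      (card_le_F _ _ rfl f.range (Group.nilpotent_of_surjective _ f.rangeRestrict_surjective))
      (card_le_F _ _ rfl f'.range (Group.nilpotent_of_surjective _ f'.rangeRestrict_surjective)))

theorem card_le_G : ∀ (n : ℕ) (α : Type) [Fintype α] [DecidableEq α], Nat.card α = n →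
    ∀ N : Subgroup (Perm α), Group.IsNilpotent N → (∀ g ∈ N, Perm.sign g = 1) → Nat.card N ≤ G n := by
  intro n
  induction n using Nat.strong_induction_on with
  | _ n ih =>
  intro α _ _ hα N hN hsgn
  by_cases hn2 : n ≤ 1
  · haveI : Subsingleton α := Finite.card_le_one_iff_subsingleton.mp (hα.trans_le hn2)
    rw [Nat.card_of_subsingleton (1 : N), G, if_pos hn2]
  haveI : Nontrivial α := Finite.one_lt_card_iff_nontrivial.mp (by omega)
  by_cases hp : ∃ p : ℕ, p.Prime ∧ IsPGroup p N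
  · obtain ⟨p, hp, hP⟩ := hp
    haveI : Fact p.Prime := ⟨hp⟩
    obtain ⟨k, hk⟩ := hP.exists_card_eq
    have hd := Subgroup.card_dvd_of_le (show N ≤ alternatingGroup α from fun g hg => hsgn g hg)
    have hA := two_mul_nat_card_alternatingGroup (α := α)
    rw [Nat.card_perm, hα] at hA
    rw [hk] at hd ⊢
    by_cases h2 : p = 2
    · subst h2
      refine le_trans ?_ (half_le_G _)
      rw [Nat.le_div_iff_mul_le two_pos, ← pow_succ]
      exact Cfsg.Agent.S2253.prime_pow_le Nat.prime_two (by rw [← hA, pow_succ']; exact mul_dvd_mul_left 2 hd)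
    · exact odd_pow_le hp (by have := hp.two_le; omega) (hA ▸ hd.mul_left 2)
  haveI : Nonempty α := inferInstance
  obtain ⟨ω⟩ := ‹Nonempty α›
  by_cases htr : ∀ x : α, ∃ g ∈ N, g ω = x
  · obtain ⟨a, b, ha, hb, hc⟩ := transitive_bound N hN hp ω htr
    rw [hα] at ha hb
    by_cases hgap : a + b + 2 ≤ n
    · exact hc.trans (half_of_gap hgap)
    · have hn6 : n ≤ 6 := by omega
      refine hc.trans ((Nat.mul_le_mul (F_mono (show a ≤ n / 2 by omega)) (F_mono (show b ≤ n / 3 by omega))).trans ?_)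
      interval_cases n <;> decide +kernel
  push Not at htr
  obtain ⟨x₀, hx₀⟩ := htr
  let O : Set α := {x | ∃ g ∈ N, g ω = x}
  have hO : ∀ (g : N) x, x ∈ O ↔ (g : Equiv.Perm α) x ∈ O := by
    intro g x
    constructor
    · rintro ⟨h, hh, rfl⟩
      exact ⟨g * h, mul_mem g.2 hh, rfl⟩
    · rintro ⟨h, hh, e⟩
      exact ⟨(g : Equiv.Perm α)⁻¹ * h, mul_mem (inv_mem g.2) hh, by simp [Equiv.Perm.mul_apply, e]⟩
  haveI : DecidablePred (· ∈ O) := fun _ => Classical.propDecidable _
  let f : N →* Equiv.Perm {x // x ∈ O} :=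
    { toFun := fun g => (g : Equiv.Perm α).subtypePerm fun x => (hO g x).symm
      map_one' := by ext; rfl
      map_mul' := fun g h => by ext; rfl }
  let f' : N →* Equiv.Perm {x // ¬ x ∈ O} :=
    { toFun := fun g => (g : Equiv.Perm α).subtypePerm fun x => (not_congr (hO g x)).symm
      map_one' := by ext; rfl
      map_mul' := fun g h => by ext; rfl }
  have hsign : ∀ g : N, Perm.sign (f g) * Perm.sign (f' g) = 1 := fun g => by
    rw [← Equiv.Perm.sign_subtypeCongr]
    refine Eq.trans (congrArg _ (Equiv.ext fun x => ?_)) (hsgn g g.2)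
    by_cases hx : x ∈ O
    · rw [Equiv.Perm.subtypeCongr.left_apply _ _ hx]; rfl
    · rw [Equiv.Perm.subtypeCongr.right_apply _ _ hx]; rfl
  set a := Nat.card {x // x ∈ O} with ha'
  set b := Nat.card {x // ¬ x ∈ O} with hb'
  have hab : a + b = n := by
    rw [← hα, ← Nat.card_congr (Equiv.sumCompl (· ∈ O)), Nat.card_sum]
  have ha0 : 0 < a := by
    haveI : Nonempty {x // x ∈ O} := ⟨⟨ω, 1, one_mem N, rfl⟩⟩
    exact Nat.card_pos
  have hb0 : 0 < b := by
    haveI : Nonempty {x // ¬ x ∈ O} := ⟨⟨x₀, fun ⟨g, hg, e⟩ => hx₀ g hg e⟩⟩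
    exact Nat.card_pos
  let F₂ : N →* f.range × f'.range := f.rangeRestrict.prod f'.rangeRestrict
  have hinj : Function.Injective F₂ := (injective_iff_map_eq_one _).mpr fun g hg => by
    have h : f g = 1 := congrArg Subtype.val (Prod.mk.inj hg).1
    have h' : f' g = 1 := congrArg Subtype.val (Prod.mk.inj hg).2
    refine Subtype.ext (Equiv.ext fun x => ?_)
    by_cases hx : x ∈ O
    · exact congrArg Subtype.val (Equiv.ext_iff.mp h ⟨x, hx⟩)
    · exact congrArg Subtype.val (Equiv.ext_iff.mp h' ⟨x, hx⟩)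
  have hnf := Group.nilpotent_of_surjective _ f.rangeRestrict_surjective
  have hnf' := Group.nilpotent_of_surjective _ f'.rangeRestrict_surjective
  by_cases heven : ∀ g : N, Perm.sign (f g) = 1
  · have h1 := ih a (by omega) _ rfl f.range hnf (by rintro _ ⟨g, rfl⟩; exact heven g)
    have h2 := ih b (by omega) _ rfl f'.range hnf'
      (by rintro _ ⟨g, rfl⟩; simpa [heven g] using hsign g)
    have h3 := Nat.card_le_card_of_injective _ hinj
    rw [Nat.card_prod] at h3
    rw [← hab]
    exact h3.trans ((Nat.mul_le_mul h1 h2).trans (G_add a b))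
  · simp only [not_forall] at heven
    obtain ⟨g₀, hg₀⟩ := heven
    have hne : F₂.range ≠ ⊤ := fun ht => hg₀ (by
      obtain ⟨g, hg⟩ : ((⟨f g₀, g₀, rfl⟩, 1) : f.range × f'.range) ∈ F₂.range := ht ▸ Subgroup.mem_top _
      have h1 : f g = f g₀ := congrArg Subtype.val (Prod.mk.inj hg).1
      have h2 : f' g = 1 := congrArg Subtype.val (Prod.mk.inj hg).2
      simpa [h1, h2] using hsign g)
    have hidx : 1 < F₂.range.index := by
      have h0 := Subgroup.index_ne_zero_of_finite (H := F₂.range)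
      have h1 : F₂.range.index ≠ 1 := fun h => hne (Subgroup.index_eq_one.mp h)
      omega
    have h3 := F₂.range.card_mul_index
    rw [Nat.card_congr (MonoidHom.ofInjective hinj).symm.toEquiv, Nat.card_prod] at h3
    refine le_trans ?_ (half_le_G _)
    rw [Nat.le_div_iff_mul_le two_pos, ← hab]
    exact (Nat.mul_le_mul_left _ hidx).trans (h3.le.trans
      ((Nat.mul_le_mul (card_le_F _ _ rfl _ hnf) (card_le_F _ _ rfl _ hnf')).trans (F_add a b)))

end Cfsg.Lib.NilpPerm
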