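import Cfsg.Agent.NilpPerm.Max

/-!
The three statements on nilpotent subgroups of largest order of symmetric and alternating groups.
-/

set_option autoImplicit false
set_option linter.style.haveILetI false
set_option linter.unusedSectionVars false

namespace Cfsg.Lib.NilpPerm

open Equiv
open Cfsg.Agent.S2253 (e F e_eq card_le_F)

theorem F_three {n : ℕ} (hn : n % 4 = 3) : F n = 3 * 2 ^ e (n - 3) := by rw [F, if_pos hn]

theorem G_alt {n k : ℕ} (h3 : n ∉ ({0, 1, 3, 5, 6, 9} : Finset ℕ)) (hk : F n = 2 * k) : G n = k := by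
  simp only [Finset.mem_insert, Finset.mem_singleton, not_or] at h3
  rw [G, if_neg (by omega), if_neg h3.2.2.1, if_neg h3.2.2.2.1, if_neg h3.2.2.2.2.1, if_neg h3.2.2.2.2.2, hk]
  omega

theorem alt_bound {n : ℕ} (N : Subgroup (alternatingGroup (Fin n))) (hN : Group.IsNilpotent N) :
    Nat.card N ≤ G n := by
  haveI := hN
  let M := N.map (alternatingGroup (Fin n)).subtype
  have hM : Group.IsNilpotent M := Group.nilpotent_of_surjective
    ((alternatingGroup (Fin n)).subtype.subgroupMap N) (MonoidHom.subgroupMap_surjective _ N)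
  have h := card_le_G n (Fin n) (Nat.card_fin n) M hM (by rintro _ ⟨g, _, rfl⟩; exact g.2)
  rwa [Subgroup.card_map_of_injective (Subgroup.subtype_injective _)] at h

theorem sylow_alt_bound (n : ℕ) (hn : n % 4 ≠ 3) (h5 : n ≠ 5) (h6 : n ≠ 6) (h9 : n ≠ 9)
    (N : Subgroup (alternatingGroup (Fin n))) (hN : Group.IsNilpotent N)
    (P : Sylow 2 (alternatingGroup (Fin n))) : Nat.card N ≤ Nat.card P := by
  refine (alt_bound N hN).trans ?_
  by_cases h1 : n ≤ 1
  · rw [G, if_pos h1]; exact Nat.card_pos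
  refine (G_alt (k := Nat.card P) ?_ ?_).le
  · simp only [Finset.mem_insert, Finset.mem_singleton, not_or]
    refine ⟨by omega, by omega, fun h => hn (by omega), h5, h6, h9⟩
  · rw [sylow_alt_card n (by omega) P, F, if_neg hn]

theorem exists_isNilpotent {n : ℕ} (h3 : 3 ≤ n) {K : Subgroup (Perm (Fin (n - 3)))} {P : Subgroup K}
    (hP : IsPGroup 2 P) :
    ∃ f : P × Multiplicative (ZMod 3) →* Perm (Fin n), Function.Injective f ∧ Group.IsNilpotent f.range ∧
      ∀ x, Perm.sign (f x) = Perm.sign ((x.1 : K) : Perm (Fin (n - 3))) := by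
  obtain ⟨ε⟩ := nonempty_three
  haveI : Fact (Nat.Prime 2) := ⟨Nat.prime_two⟩
  haveI := hP.isNilpotent
  let g : P × Multiplicative (ZMod 3) →* Perm (Fin (n - 3)) × Perm (Fin 3) :=
    (K.subtype.comp P.subtype).prodMap ((alternatingGroup (Fin 3)).subtype.comp ε.symm.toMonoidHom)
  have hg : Function.Injective g := (K.subtype_injective.comp P.subtype_injective).prodMap
    ((Subgroup.subtype_injective _).comp ε.symm.injective)
  refine ⟨(emb n h3).comp g, (emb_injective n h3).comp hg,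
    Group.nilpotent_of_surjective _ ((emb n h3).comp g).rangeRestrict_surjective, fun x => ?_⟩
  rw [MonoidHom.comp_apply, sign_emb]
  show _ * Perm.sign ((ε.symm x.2 : alternatingGroup (Fin 3)) : Perm (Fin 3)) = _
  rw [Perm.mem_alternatingGroup.mp (ε.symm x.2).2, mul_one]
  rfl

theorem perm_max (n : ℕ) (hn : n % 4 = 3) (P : Sylow 2 (Perm (Fin (n - 3)))) :
    (∀ N : Subgroup (Perm (Fin n)), Group.IsNilpotent N → Nat.card N ≤ 3 * Nat.card P) ∧
    (∃ M : Subgroup (Perm (Fin n)), Group.IsNilpotent M ∧ Nat.card M = 3 * Nat.card P ∧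
      Nonempty (M ≃* (↥(P : Subgroup (Perm (Fin (n - 3)))) × Multiplicative (ZMod 3)))) ∧
    (∀ N₁ N₂ : Subgroup (Perm (Fin n)), Group.IsNilpotent N₁ → Group.IsNilpotent N₂ →
      Nat.card N₁ = 3 * Nat.card P → Nat.card N₂ = 3 * Nat.card P →
      ∃ g : Perm (Fin n), N₂ = N₁.map (MulAut.conj g).toMonoidHom) := by
  rw [sylow_perm_card]
  refine ⟨fun N hN => (card_le_F n (Fin n) (Nat.card_fin n) N hN).trans (F_three hn).le, ?_, ?_⟩
  · let ι := (Subgroup.topEquiv (G := Perm (Fin (n - 3)))).symm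
    have hP' : IsPGroup 2 ((P : Subgroup (Perm (Fin (n - 3)))).map ι.toMonoidHom) := P.2.map _
    obtain ⟨f, hf, hnil, -⟩ := exists_isNilpotent (n := n) (by omega) hP'
    let ι' := ((P : Subgroup (Perm (Fin (n - 3)))).equivMapOfInjective ι.toMonoidHom ι.injective).prodCongr
      (MulEquiv.refl (Multiplicative (ZMod 3)))
    refine ⟨f.range, hnil, ?_, ⟨((MonoidHom.ofInjective hf).symm.trans ι'.symm)⟩⟩
    rw [Nat.card_congr ((MonoidHom.ofInjective hf).symm.trans ι'.symm).toEquiv, Nat.card_prod,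
      Nat.card_congr Multiplicative.toAdd, Nat.card_zmod, mul_comm, sylow_perm_card]
  · intro N₁ N₂ h₁ h₂ c₁ c₂
    have hm : n < 6 ∨ e (n - 4) < e (n - 3) := by
      by_cases h : n < 6
      · exact Or.inl h
      · have := e_gap hn (by omega); omega
    obtain ⟨a, ha, -, S, -, hS, hSc, rfl⟩ := structure_eq (Nat.card_fin n) hm N₂ h₂ c₂
    obtain ⟨b, hb, -, T, -, hT, hTc, rfl⟩ := structure_eq (Nat.card_fin n) hm N₁ h₁ c₁
    obtain ⟨g, hg⟩ := isConj_iff.mp (Perm.isConj_iff_cycleType_eq.mpr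
      (hb.cycleType.trans ha.cycleType.symm))
    obtain ⟨k, -, hk⟩ := conj_of_shape (H := ⊤) ⟨g, trivial, hg⟩ (m := e (n - 3))
      (fun h => two_pow_not_dvd_factorial (n - 3) (h.trans (by
        rw [inf_top_eq]; simpa using card_fixer_dvd ha)))
      (le_inf hS le_top) hSc (le_inf hT le_top) hTc
    exact ⟨k, hk⟩

theorem alt_max (n : ℕ) (hn : n % 4 = 3) (h7 : 7 ≤ n) (P : Sylow 2 (alternatingGroup (Fin (n - 3)))) :
    (∀ N : Subgroup (alternatingGroup (Fin n)), Group.IsNilpotent N → Nat.card N ≤ 3 * Nat.card P) ∧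
    (∃ M : Subgroup (alternatingGroup (Fin n)), Group.IsNilpotent M ∧ Nat.card M = 3 * Nat.card P ∧
      Nonempty (M ≃* (↥(P : Subgroup (alternatingGroup (Fin (n - 3)))) × Multiplicative (ZMod 3)))) ∧
    (∀ N₁ N₂ : Subgroup (alternatingGroup (Fin n)), Group.IsNilpotent N₁ → Group.IsNilpotent N₂ →
      Nat.card N₁ = 3 * Nat.card P → Nat.card N₂ = 3 * Nat.card P →
      ∃ g : alternatingGroup (Fin n), N₂ = N₁.map (MulAut.conj g).toMonoidHom) := by
  haveI : Fact (Nat.Prime 2) := ⟨Nat.prime_two⟩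
  have hP : 2 * Nat.card P = 2 ^ e (n - 3) := sylow_alt_card (n - 3) (by omega) P
  obtain ⟨k, hk⟩ := P.2.exists_card_eq
  have hk1 : k + 1 = e (n - 3) := by
    rw [hk, ← pow_succ'] at hP
    exact Nat.pow_right_injective le_rfl hP
  refine ⟨fun N hN => (alt_bound N hN).trans (G_alt (k := 3 * Nat.card P) ?_ ?_).le, ?_, ?_⟩
  · simp only [Finset.mem_insert, Finset.mem_singleton, not_or]
    omega
  · rw [F_three hn, ← hP]; ring
  · obtain ⟨f, hf, hnil, hsign⟩ := exists_isNilpotent (n := n) (by omega) P.2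
    have hle : f.range ≤ alternatingGroup (Fin n) := by
      rintro _ ⟨x, rfl⟩
      rw [Perm.mem_alternatingGroup, hsign]
      exact Perm.mem_alternatingGroup.mp x.1.1.2
    let ε := (Subgroup.subgroupOfEquivOfLe hle).trans (MonoidHom.ofInjective hf).symm
    haveI := hnil
    refine ⟨f.range.subgroupOf (alternatingGroup (Fin n)),
      Group.nilpotent_of_surjective (Subgroup.subgroupOfEquivOfLe hle).symm.toMonoidHom
        (Subgroup.subgroupOfEquivOfLe hle).symm.surjective, ?_, ⟨ε⟩⟩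
    rw [Nat.card_congr ε.toEquiv, Nat.card_prod, Nat.card_congr Multiplicative.toAdd, Nat.card_zmod, mul_comm]
  · intro N₁ N₂ h₁ h₂ c₁ c₂
    have hm : n < 6 ∨ e (n - 4) < k := Or.inr (by have := e_gap hn h7; omega)
    rw [hk] at c₁ c₂
    let sub := (alternatingGroup (Fin n)).subtype
    have hsub : Function.Injective sub := Subgroup.subtype_injective _
    have mapN : ∀ N : Subgroup (alternatingGroup (Fin n)), Group.IsNilpotent N → Nat.card N = 3 * 2 ^ k →
        ∃ a : Perm (Fin n), a.IsThreeCycle ∧ ∃ S : Subgroup (Perm (Fin n)),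
          S ≤ fixer a ⊓ alternatingGroup (Fin n) ∧ Nat.card S = 2 ^ k ∧ N.map sub = Subgroup.zpowers a ⊔ S := by
      intro N hN hc
      haveI := hN
      obtain ⟨a, ha, -, S, hSN, hS, hSc, he⟩ := structure_eq (Nat.card_fin n) hm (N.map sub)
        (Group.nilpotent_of_surjective (sub.subgroupMap N) (MonoidHom.subgroupMap_surjective _ N))
        (by rw [Subgroup.card_map_of_injective hsub, hc])
      exact ⟨a, ha, S, le_inf hS (hSN.trans (Subgroup.map_subtype_le N)), hSc, he⟩
    obtain ⟨a, ha, S, hS, hSc, he₂⟩ := mapN N₂ h₂ c₂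
    obtain ⟨b, hb, T, hT, hTc, he₁⟩ := mapN N₁ h₁ c₁
    obtain ⟨g, hg⟩ := isConj_iff.mp (Perm.isConj_iff_cycleType_eq.mpr
      (hb.cycleType.trans ha.cycleType.symm))
    obtain ⟨g, hgA, hg⟩ : ∃ g ∈ alternatingGroup (Fin n), g * b * g⁻¹ = a := by
      by_cases hev : g ∈ alternatingGroup (Fin n)
      · exact ⟨g, hev, hg⟩
      · have hcard := card_fixed ha
        rw [Nat.card_fin] at hcard
        haveI : Nontrivial {y // a y = y} := Finite.one_lt_card_iff_nontrivial.mp (by omega)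
        obtain ⟨⟨u, hu⟩, ⟨v, hv⟩, huv⟩ := exists_pair_ne {y // a y = y}
        have huv' : u ≠ v := fun h => huv (Subtype.ext h)
        refine ⟨swap u v * g, ?_, ?_⟩
        · rw [Perm.mem_alternatingGroup] at hev ⊢
          rw [Perm.sign_mul, Perm.sign_swap huv', (Int.units_eq_one_or _).resolve_left hev]
          rfl
        · rw [show swap u v * g * b * (swap u v * g)⁻¹ = swap u v * (g * b * g⁻¹) * (swap u v)⁻¹ by group, hg,
            (fixer_commute (g := swap u v) (c := a) fun y hy => swap_apply_of_ne_of_ne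
              (fun h => hy (h ▸ hu)) (fun h => hy (h ▸ hv))).eq, mul_inv_cancel_right]
    have hK : ¬ 2 ^ (k + 1) ∣ Nat.card (fixer a ⊓ alternatingGroup (Fin n) : Subgroup (Perm (Fin n))) := by
      intro h
      have h2 := (mul_dvd_mul_left 2 h).trans (card_fixer_inf_dvd ha (by rw [Nat.card_fin]; omega))
      rw [← pow_succ', Nat.card_fin, hk1] at h2
      exact two_pow_not_dvd_factorial (n - 3) h2
    obtain ⟨x, hxA, hx⟩ := conj_of_shape ⟨g, hgA, hg⟩ hK hS hSc hT hTc
    refine ⟨⟨x, hxA⟩, Subgroup.map_injective hsub ?_⟩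
    rw [he₂, hx, ← he₁, Subgroup.map_map, Subgroup.map_map]
    congr 1

end Cfsg.Lib.NilpPerm
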