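import Cfsg.Agent.NilpPerm.Bound

/-!
Nilpotent permutation groups of largest order in degree `n ≡ 3 (mod 4)`.
-/

set_option autoImplicit false
set_option linter.style.haveILetI false

namespace Cfsg.Lib.NilpPerm

open Equiv
open Cfsg.Agent.S2253 (e F e_eq e_mono_dvd F_pos F_add F_mono card_le_F)

variable {α : Type} [Fintype α] [DecidableEq α]

/-- The permutations fixing every point moved by `c`. -/
def fixer (c : Perm α) : Subgroup (Perm α) where
  carrier := {g | ∀ y, c y ≠ y → g y = y}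
  one_mem' := fun _ _ => rfl
  mul_mem' := fun {g h} hg hh y hy => by rw [Perm.mul_apply, hh y hy, hg y hy]
  inv_mem' := fun {g} hg y hy => by rw [Perm.inv_eq_iff_eq, hg y hy]

theorem mem_fixer {c g : Perm α} : g ∈ fixer c ↔ ∀ y, c y ≠ y → g y = y := Iff.rfl

theorem fixer_commute {c g : Perm α} (h : g ∈ fixer c) : Commute g c := by
  refine Equiv.Perm.Disjoint.commute fun x => ?_
  by_cases hx : c x = x
  · exact Or.inr hx
  · exact Or.inl (h x hx)

/-- The restriction to the fixed points of `c`. -/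
def fixerHom (c : Perm α) : fixer c →* Perm {y // c y = y} where
  toFun g := (g : Perm α).subtypePerm fun y => by
    constructor
    · intro h
      by_contra hy
      rw [g.2 y hy] at h
      exact hy h
    · intro h
      have := (fixer_commute g.2).eq
      have := congrArg (fun p : Perm α => p y) this
      simp only [Perm.mul_apply, h] at this
      exact this.symm
  map_one' := by ext; rfl
  map_mul' g h := by ext; rfl

theorem fixerHom_injective (c : Perm α) : Function.Injective (fixerHom c) := fun g h e => by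
  refine Subtype.ext (Equiv.ext fun y => ?_)
  by_cases hy : c y = y
  · exact congrArg Subtype.val (Equiv.ext_iff.mp e ⟨y, hy⟩)
  · rw [g.2 y hy, h.2 y hy]

theorem card_fixed {c : Perm α} (hc : c.IsThreeCycle) : Nat.card {y // c y = y} = Nat.card α - 3 := by
  rw [Nat.card_eq_fintype_card, Nat.card_eq_fintype_card]
  have h : (Finset.univ.filter fun y => c y = y) = c.supportᶜ := by
    ext y; simp
  rw [Fintype.card_subtype, h, Finset.card_compl, hc.card_support]

theorem card_fixer_dvd {c : Perm α} (hc : c.IsThreeCycle) :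
    Nat.card (fixer c) ∣ (Nat.card α - 3).factorial := by
  rw [← card_fixed hc, ← Nat.card_perm]
  exact Subgroup.card_dvd_of_injective _ (fixerHom_injective c)

theorem card_fixer_inf_dvd {c : Perm α} (hc : c.IsThreeCycle) (h7 : 7 ≤ Nat.card α) :
    2 * Nat.card (fixer c ⊓ alternatingGroup α : Subgroup (Perm α)) ∣ (Nat.card α - 3).factorial := by
  haveI : Nontrivial {y // c y = y} := Finite.one_lt_card_iff_nontrivial.mp (by rw [card_fixed hc]; omega)
  let ψ := (fixerHom c).comp (Subgroup.inclusion (inf_le_left : fixer c ⊓ alternatingGroup α ≤ fixer c))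
  have hψ : Function.Injective ψ := (fixerHom_injective c).comp (Subgroup.inclusion_injective _)
  have hmem : ∀ g, ψ g ∈ alternatingGroup {y // c y = y} := fun g => by
    rw [Perm.mem_alternatingGroup]
    refine Eq.trans ?_ (Perm.mem_alternatingGroup.mp g.2.2)
    simp only [ψ, MonoidHom.comp_apply, fixerHom, MonoidHom.coe_mk, OneHom.coe_mk]
    refine Perm.sign_subtypePerm _ _ fun x hx => ?_
    by_contra hcx
    exact hx (g.2.1 x hcx)
  have h := Subgroup.card_dvd_of_injective (ψ.codRestrict _ hmem) fun a b e =>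
    hψ (congrArg Subtype.val e)
  rw [← card_fixed hc, ← Nat.card_perm, ← two_mul_nat_card_alternatingGroup (α := {y // c y = y})]
  exact mul_dvd_mul_left 2 h

theorem structure_eq {n m : ℕ} (hα : Nat.card α = n) (hm : n < 6 ∨ e (n - 4) < m) (N : Subgroup (Perm α))
    (hN : Group.IsNilpotent N) (hcard : Nat.card N = 3 * 2 ^ m) :
    ∃ c : Perm α, c.IsThreeCycle ∧ c ∈ N ∧ ∃ S : Subgroup (Perm α), S ≤ N ∧ S ≤ fixer c ∧
      Nat.card S = 2 ^ m ∧ N = Subgroup.zpowers c ⊔ S := by
  haveI : Fact (Nat.Prime 3) := ⟨Nat.prime_three⟩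
  haveI : Fact (Nat.Prime 2) := ⟨Nat.prime_two⟩
  obtain ⟨cN, hcN⟩ := exists_prime_orderOf_dvd_card' 3 (G := N) (hcard ▸ dvd_mul_right 3 _)
  obtain ⟨P⟩ : Nonempty (Sylow 2 N) := inferInstance
  have hPc : Nat.card (P : Subgroup N) = 2 ^ m := by
    rw [P.card_eq_multiplicity, hcard, Nat.factorization_mul (by norm_num) (by positivity),
      Finsupp.add_apply, Nat.factorization_eq_zero_of_not_dvd (show ¬ 2 ∣ 3 by norm_num), zero_add,
      Nat.Prime.factorization_pow Nat.prime_two, Finsupp.single_eq_same]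
  obtain ⟨c, hc⟩ : ∃ c : Perm α, (cN : Perm α) = c := ⟨_, rfl⟩
  obtain ⟨S, hS⟩ : ∃ S : Subgroup (Perm α), (P : Subgroup N).map N.subtype = S := ⟨_, rfl⟩
  have hSN : S ≤ N := hS ▸ Subgroup.map_subtype_le _
  have hScard : Nat.card S = 2 ^ m := by
    rw [← hS, Subgroup.card_map_of_injective N.subtype_injective]; exact hPc
  have hord : orderOf c = 3 := by rw [← hc, Subgroup.orderOf_coe]; exact hcN
  have hc3 : ∀ y, c (c (c y)) = y := fun y => by
    have := congrArg (fun p : Perm α => p y) (pow_orderOf_eq_one c)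
    rwa [hord, pow_succ, pow_two] at this
  have hs2 : ∀ s ∈ S, s ^ 2 ^ m = 1 := fun s hs => by
    have := orderOf_dvd_natCard (⟨s, hs⟩ : S)
    rw [Subgroup.orderOf_mk, hScard] at this
    exact orderOf_dvd_iff_pow_eq_one.mp this
  have hSc : ∀ s ∈ S, Commute s c := fun s hs => by
    rw [← hS] at hs
    obtain ⟨t, ht, rfl⟩ := hs
    haveI := hN
    have hcop : (orderOf cN).Coprime (orderOf t) := by
      rw [hcN]
      refine Nat.Coprime.coprime_dvd_right ?_ (Nat.Coprime.pow_right m (by norm_num : Nat.Coprime 3 2))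
      rw [← hPc]
      have := orderOf_dvd_natCard (⟨t, ht⟩ : (P : Subgroup N))
      rwa [Subgroup.orderOf_mk] at this
    rw [← hc]
    exact congrArg Subtype.val (Cfsg.Agent.S2253.comm_coprime hcop).eq
  have hne : c ≠ 1 := fun h => by rw [h, orderOf_one] at hord; norm_num at hord
  obtain ⟨x, hx⟩ : ∃ x, c x ≠ x := by
    by_contra h
    simp only [not_exists, not_not] at h
    exact hne (Equiv.ext h)
  have hx2 : c (c x) ≠ x := fun h => hx (by have := hc3 x; rwa [h] at this)
  have hx3 : c (c x) ≠ c x := fun h => hx (c.injective h)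
  -- the orbit space of `c`
  let s : Setoid α :=
    { r := fun u v => v = u ∨ v = c u ∨ v = c (c u)
      iseqv := ⟨fun u => Or.inl rfl, fun {u v} h => by
          rcases h with h | h | h <;> subst h <;> simp [hc3], fun {u v w} h h' => by
          rcases h with h | h | h <;> rcases h' with h' | h' | h' <;> subst h <;> subst h' <;> simp [hc3]⟩ }
  have resp : ∀ g : S, ∀ u v, s.r u v → s.r ((g : Perm α) u) ((g : Perm α) v) := fun g u v h => by
    have hg : ∀ y, (g : Perm α) (c y) = c ((g : Perm α) y) := fun y =>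
      congrArg (fun p : Perm α => p y) (hSc g g.2).eq
    rcases h with h | h | h <;> subst h
    · exact Or.inl rfl
    · exact Or.inr (Or.inl (hg u))
    · exact Or.inr (Or.inr (by rw [hg, hg]))
  let φ : S → Quotient s → Quotient s := fun g => Quotient.map (g : Perm α) fun u v h => resp g u v h
  let ρ : S →* Perm (Quotient s) := MonoidHom.toHomPerm
    { toFun := φ
      map_one' := funext fun q => Quotient.inductionOn q fun u => rfl
      map_mul' := fun g h => funext fun q => Quotient.inductionOn q fun u => rfl }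
  -- a `2`-element commuting with `c` which preserves an orbit fixes it
  have key : ∀ g ∈ S, ∀ u, s.r u (g u) → g u = u := by
    intro g hg u hu
    have hgc : ∀ y, g (c y) = c (g y) := fun y => congrArg (fun p : Perm α => p y) (hSc g hg).eq
    have h3 : g (g (g u)) = u := by
      rcases hu with h | h | h
      · simp [h]
      · simp [h, hgc, hc3]
      · simp [h, hgc, hc3]
    have h2 : (g ^ 2 ^ m) u = u := by rw [hs2 g hg]; rfl
    have h3' : (g ^ 3) u = u := by rw [pow_succ, pow_two]; exact h3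
    have hz : g ∈ Subgroup.zpowers (g ^ 3) := by
      obtain ⟨i, hi⟩ := exists_pow_eq_self_of_coprime (x := g) (n := 3)
        (Nat.Coprime.coprime_dvd_right (orderOf_dvd_of_pow_eq_one (hs2 g hg))
          (Nat.Coprime.pow_right m (by norm_num : Nat.Coprime 3 2)))
      exact ⟨(i : ℤ), by show (g ^ 3) ^ (i : ℤ) = g; rw [zpow_natCast]; exact hi⟩
    obtain ⟨z, hz⟩ := hz
    rw [← hz]
    exact Equiv.Perm.zpow_apply_eq_self_of_apply_eq_self h3' z
  have hρ : Function.Injective ρ := (injective_iff_map_eq_one _).mpr fun g hg => by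
    refine Subtype.ext (Equiv.ext fun u => ?_)
    exact key g g.2 u (Quotient.exact (Equiv.ext_iff.mp hg (Quotient.mk s u)).symm)
  have hsupp : ∀ y, c y ≠ y → y = x ∨ y = c x ∨ y = c (c x) := by
    intro y hy
    by_contra hxy
    simp only [not_or] at hxy
    obtain ⟨hy0, hy1, hy2⟩ := hxy
    have hy2' : c (c y) ≠ y := fun h => hy (by have := hc3 y; rwa [h] at this)
    have hy3' : c (c y) ≠ c y := fun h => hy (c.injective h)
    have a1 : c y ≠ c x := fun h => hy0 (c.injective h)
    have a2 : c (c y) ≠ c (c x) := fun h => hy0 (c.injective (c.injective h))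
    have a3 : c y ≠ c (c x) := fun h => hy1 (c.injective h)
    have a4 : c (c y) ≠ c x := fun h => hy2 (by
      have := congrArg c h
      rwa [hc3] at this)
    have a5 : c y ≠ x := fun h => hy2 (by rw [← h, hc3])
    have a6 : c (c y) ≠ x := fun h => hy1 (by rw [← h, hc3])
    -- six points, two orbits
    let D : Finset α := {c x, c (c x), c y, c (c y)}
    have hD : D.card = 4 := by
      simp only [D]
      rw [Finset.card_insert_of_notMem (by simp [hx3.symm, a1.symm, a4.symm]),
        Finset.card_insert_of_notMem (by simp [a3.symm, a2.symm]),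
        Finset.card_insert_of_notMem (by simp [hy3'.symm]), Finset.card_singleton]
    have hsur : Function.Surjective (fun u : {u // u ∈ Dᶜ} => Quotient.mk s u.1) := by
      intro q
      induction q using Quotient.inductionOn with
      | _ u =>
        by_cases hu : u ∈ D
        · have hxD : x ∈ Dᶜ := by simp [D, hx.symm, hx2.symm, a5.symm, a6.symm]
          have hyD : y ∈ Dᶜ := by simp [D, hy1, hy2, hy.symm, hy2'.symm]
          simp only [D, Finset.mem_insert, Finset.mem_singleton] at hu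
          rcases hu with rfl | rfl | rfl | rfl
          · exact ⟨⟨x, hxD⟩, Quotient.sound (Or.inr (Or.inl rfl))⟩
          · exact ⟨⟨x, hxD⟩, Quotient.sound (Or.inr (Or.inr rfl))⟩
          · exact ⟨⟨y, hyD⟩, Quotient.sound (Or.inr (Or.inl rfl))⟩
          · exact ⟨⟨y, hyD⟩, Quotient.sound (Or.inr (Or.inr rfl))⟩
        · exact ⟨⟨u, by simpa using hu⟩, rfl⟩
    have hq := Nat.card_le_card_of_surjective _ hsur
    rw [Nat.card_eq_fintype_card (α := {u // u ∈ Dᶜ}), Fintype.card_coe, Finset.card_compl, hD,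
      ← Nat.card_eq_fintype_card (α := α), hα] at hq
    have h6 : 6 ≤ n := by
      have : ({x, y} ∪ D : Finset α).card ≤ Fintype.card α := Finset.card_le_univ _
      rw [Finset.card_union_of_disjoint, Finset.card_pair (Ne.symm hy0), hD, ← Nat.card_eq_fintype_card, hα] at this
      · exact this
      · simp [D, hx, hx2, a5, a6, Ne.symm hy1, Ne.symm hy2, hy, hy2', hy1, hy2, hx.symm, hx2.symm, a5.symm,
          a6.symm, hy.symm, hy2'.symm]
    have hd := Subgroup.card_dvd_of_injective ρ hρ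
    rw [hScard, Nat.card_perm] at hd
    have hle : m ≤ e (n - 4) := by
      rw [e_eq]
      exact (padicValNat_dvd_iff_le (Nat.factorial_ne_zero _)).mp (hd.trans (Nat.factorial_dvd_factorial hq))
    rcases hm with hm | hm <;> omega
  have h3c : c.IsThreeCycle := by
    rw [← card_support_eq_three_iff]
    have : c.support = {x, c x, c (c x)} := by
      ext y
      rw [Perm.mem_support, Finset.mem_insert, Finset.mem_insert, Finset.mem_singleton]
      refine ⟨hsupp y, ?_⟩
      rintro (rfl | rfl | rfl)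
      · exact hx
      · exact fun h => hx (c.injective h)
      · exact fun h => hx3 (c.injective h)
    rw [this, Finset.card_insert_of_notMem (by simp [hx.symm, hx2.symm]),
      Finset.card_insert_of_notMem (by simp [hx3.symm]), Finset.card_singleton]
  have hfix : S ≤ fixer c := fun g hg y hy => by
    refine key g hg y ?_
    have hgy : c (g y) ≠ g y := fun h => hy (g.injective (by
      rw [show g (c y) = c (g y) from congrArg (fun p : Perm α => p y) (hSc g hg).eq, h]))
    rcases hsupp y hy with rfl | rfl | rfl <;> rcases hsupp _ hgy with h | h | h <;>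
      rw [h] <;> simp [s, Setoid.r, hc3]
  refine ⟨c, h3c, hc ▸ cN.2, S, hSN, hfix, hScard, ?_⟩
  have hle : Subgroup.zpowers c ⊔ S ≤ N := sup_le (Subgroup.zpowers_le.mpr (hc ▸ cN.2)) hSN
  refine (Subgroup.eq_of_le_of_card_ge hle ?_).symm
  rw [hcard]
  refine Nat.le_of_dvd Nat.card_pos (Nat.Coprime.mul_dvd_of_dvd_of_dvd
    (Nat.Coprime.pow_right m (by norm_num)) ?_ ?_)
  · have := Subgroup.card_dvd_of_le (le_sup_left : Subgroup.zpowers c ≤ Subgroup.zpowers c ⊔ S)
    rwa [Nat.card_zpowers, hord] at this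
  · exact hScard ▸ Subgroup.card_dvd_of_le le_sup_right

theorem conj_of_shape {H : Subgroup (Perm α)} {m : ℕ} {c₁ c₂ : Perm α} {S₁ S₂ : Subgroup (Perm α)}
    (hh : ∃ h ∈ H, h * c₂ * h⁻¹ = c₁)
    (hK : ¬ 2 ^ (m + 1) ∣ Nat.card (fixer c₁ ⊓ H : Subgroup (Perm α)))
    (hS₁ : S₁ ≤ fixer c₁ ⊓ H) (hS₁c : Nat.card S₁ = 2 ^ m)
    (hS₂ : S₂ ≤ fixer c₂ ⊓ H) (hS₂c : Nat.card S₂ = 2 ^ m) :
    ∃ g ∈ H, Subgroup.zpowers c₁ ⊔ S₁ = (Subgroup.zpowers c₂ ⊔ S₂).map (MulAut.conj g).toMonoidHom := by
  haveI : Fact (Nat.Prime 2) := ⟨Nat.prime_two⟩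
  obtain ⟨h, hH, hc⟩ := hh
  obtain ⟨K, hK'⟩ : ∃ K, fixer c₁ ⊓ H = K := ⟨_, rfl⟩
  rw [hK'] at hK hS₁
  let T := S₂.map (MulAut.conj h).toMonoidHom
  have hT : T ≤ K := by
    rw [← hK']
    rintro _ ⟨s, hs, rfl⟩
    refine ⟨fun y hy => ?_, H.mul_mem (H.mul_mem hH (hS₂ hs).2) (H.inv_mem hH)⟩
    show (h * s * h⁻¹) y = y
    have : c₂ (h⁻¹ y) ≠ h⁻¹ y := fun hc2 => hy (by
      rw [← hc]; simp only [Perm.mul_apply]; rw [hc2]; simp)
    rw [Perm.mul_apply, Perm.mul_apply, (hS₂ hs).1 _ this]
    simp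
  have hTc : Nat.card T = 2 ^ m := by
    rw [Subgroup.card_map_of_injective (MulAut.conj h).injective, hS₂c]
  have syl : ∀ U : Subgroup (Perm α), U ≤ K → Nat.card U = 2 ^ m →
      ∃ Q : Sylow 2 K, (Q : Subgroup K) = U.subgroupOf K := by
    intro U hU hUc
    have hc' : Nat.card (U.subgroupOf K) = 2 ^ m := by
      rw [Nat.card_congr (Subgroup.subgroupOfEquivOfLe hU).toEquiv, hUc]
    obtain ⟨Q, hQ⟩ := (IsPGroup.of_card hc').exists_le_sylow
    obtain ⟨j, hj⟩ := Q.2.exists_card_eq
    refine ⟨Q, (Subgroup.eq_of_le_of_card_ge hQ ?_).symm⟩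
    rw [hc', hj]
    refine Nat.pow_le_pow_right two_pos ?_
    by_contra hjm
    exact hK (((pow_dvd_pow 2 (by omega : m + 1 ≤ j)).trans (dvd_of_eq hj.symm)).trans
      (Subgroup.card_subgroup_dvd_card (Q : Subgroup K)))
  obtain ⟨Q₁, hQ₁⟩ := syl S₁ hS₁ hS₁c
  obtain ⟨Q₂, hQ₂⟩ := syl T hT hTc
  obtain ⟨k, hk⟩ := MulAction.exists_smul_eq K Q₂ Q₁
  refine ⟨(k : Perm α) * h, H.mul_mem (hK' ▸ k.2 : (k : Perm α) ∈ fixer c₁ ⊓ H).2 hH, ?_⟩
  have hk' : S₁ = T.map (MulAut.conj (k : Perm α)).toMonoidHom := by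
    have h1 : (Q₁ : Subgroup K).map K.subtype = S₁ := by rw [hQ₁, Subgroup.map_subgroupOf_eq_of_le hS₁]
    have h2 : (Q₂ : Subgroup K).map K.subtype = T := by rw [hQ₂, Subgroup.map_subgroupOf_eq_of_le hT]
    rw [← h1, ← h2, ← hk, Sylow.coe_subgroup_smul, Subgroup.map_map]
    show Subgroup.map K.subtype (Subgroup.map (MulAut.conj k).toMonoidHom (Q₂ : Subgroup K)) = _
    rw [Subgroup.map_map]
    rfl
  have hmap : (Subgroup.zpowers c₂).map (MulAut.conj ((k : Perm α) * h)).toMonoidHom = Subgroup.zpowers c₁ := by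
    rw [MonoidHom.map_zpowers]
    congr 1
    show (k : Perm α) * h * c₂ * ((k : Perm α) * h)⁻¹ = c₁
    rw [show (k : Perm α) * h * c₂ * ((k : Perm α) * h)⁻¹ = k * (h * c₂ * h⁻¹) * (k : Perm α)⁻¹ by group, hc,
      (fixer_commute (hK' ▸ k.2 : (k : Perm α) ∈ fixer c₁ ⊓ H).1).eq, mul_inv_cancel_right]
  rw [Subgroup.map_sup, hmap, hk']
  congr 1
  rw [Subgroup.map_map]
  congr 1

theorem two_pow_not_dvd_factorial (k : ℕ) : ¬ 2 ^ (e k + 1) ∣ k.factorial := by
  haveI : Fact (Nat.Prime 2) := ⟨Nat.prime_two⟩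
  rw [padicValNat_dvd_iff_le k.factorial_ne_zero, ← e_eq]
  omega

theorem e_gap {n : ℕ} (hn : n % 4 = 3) (h7 : 7 ≤ n) : e (n - 4) + 2 ≤ e (n - 3) := by
  refine e_mono_dvd ?_
  rw [show n - 3 = (n - 4) + 1 by omega, Nat.factorial_succ]
  exact mul_dvd_mul_right (show 2 ^ 2 ∣ n - 4 + 1 by norm_num; omega) _

theorem sylow_perm_card (k : ℕ) (P : Sylow 2 (Perm (Fin k))) : Nat.card P = 2 ^ e k := by
  haveI : Fact (Nat.Prime 2) := ⟨Nat.prime_two⟩
  rw [P.card_eq_multiplicity, Nat.card_perm, Nat.card_fin, e_eq, Nat.factorization_def _ Nat.prime_two]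

theorem sylow_alt_card (k : ℕ) (hk : 2 ≤ k) (P : Sylow 2 (alternatingGroup (Fin k))) :
    2 * Nat.card P = 2 ^ e k := by
  haveI : Fact (Nat.Prime 2) := ⟨Nat.prime_two⟩
  haveI : Nontrivial (Fin k) := Fin.nontrivial_iff_two_le.mpr hk
  have h := two_mul_nat_card_alternatingGroup (α := Fin k)
  rw [Nat.card_perm, Nat.card_fin] at h
  rw [P.card_eq_multiplicity, e_eq, ← Nat.factorization_def _ Nat.prime_two, ← h,
    Nat.factorization_mul (by norm_num) Nat.card_pos.ne', Finsupp.add_apply,
    Nat.Prime.factorization_self Nat.prime_two, pow_add, pow_one]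

/-- The standard embedding. -/
noncomputable def emb (n : ℕ) (h3 : 3 ≤ n) : Perm (Fin (n - 3)) × Perm (Fin 3) →* Perm (Fin n) :=
  ((finSumFinEquiv.trans (finCongr (by omega : n - 3 + 3 = n))).permCongrHom.toMonoidHom).comp
    (Perm.sumCongrHom _ _)

theorem emb_injective (n : ℕ) (h3 : 3 ≤ n) : Function.Injective (emb n h3) :=
  fun _ _ h => Perm.sumCongrHom_injective
    ((finSumFinEquiv.trans (finCongr (by omega : n - 3 + 3 = n))).permCongrHom.injective h)

theorem sign_emb (n : ℕ) (h3 : 3 ≤ n) (x : Perm (Fin (n - 3)) × Perm (Fin 3)) :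
    Perm.sign (emb n h3 x) = Perm.sign x.1 * Perm.sign x.2 := by
  show Perm.sign (Equiv.permCongr _ (Perm.sumCongr x.1 x.2)) = _
  rw [Perm.sign_permCongr, Perm.sign_sumCongr]

theorem nonempty_three : Nonempty (alternatingGroup (Fin 3) ≃* Multiplicative (ZMod 3)) := by
  haveI : Fact (Nat.Prime 3) := ⟨Nat.prime_three⟩
  have h : Nat.card (alternatingGroup (Fin 3)) = 3 := by
    rw [nat_card_alternatingGroup, Nat.card_fin]; rfl
  exact ⟨mulEquivOfPrimeCardEq h (by rw [Nat.card_congr Multiplicative.toAdd, Nat.card_zmod])⟩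

end Cfsg.Lib.NilpPerm
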